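import Mathlib
import Cfsg.Prelude.Def_BaumannBlocks
import Cfsg.Agent.Lib.TransferOrbit.Basic
import Cfsg.Agent.Lib.Transfer.Tate
import Cfsg.Agent.Lib.Transfer.Fusion
import Cfsg.Agent.Lib.Transfer.Criteria
import Cfsg.Agent.Lib.Core.Nilpotent

/-!
The theorem of Hall and Wielandt on transfer into the normaliser of a weakly closed subgroup.
-/

set_option autoImplicit false

namespace Cfsg.Agent.Lib.HallWielandt

open Subgroup MulAction
open scoped Pointwise

variable {R : Type*} [Group R] [Finite R] {A : Type*} [CommGroup A] {p : ℕ} [hp : Fact p.Prime]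

/-- Transitivity of the transfer. -/
theorem transfer_trans {S M : Subgroup R} (h : S ≤ M) (ψ : S →* A) (x : R) :
    MonoidHom.transfer ψ x =
      MonoidHom.transfer
        (MonoidHom.transfer (ψ.comp (subgroupOfEquivOfLe h).toMonoidHom) : M →* A) x := by
  classical
  haveI := Fintype.ofFinite (R ⧸ S)
  haveI := Fintype.ofFinite (R ⧸ M)
  haveI := Fintype.ofFinite (M ⧸ S.subgroupOf M)
  obtain ⟨e, he⟩ : ∃ e : R ⧸ S ≃ (R ⧸ M) × M ⧸ S.subgroupOf M,
      ∀ (a : R ⧸ M) (b : M), e.symm (a, (b : M ⧸ S.subgroupOf M)) = ((a.out * (b : R) : R) : R ⧸ S) :=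
    ⟨quotientEquivProdOfLE' h Quotient.out QuotientGroup.out_eq', fun a b => rfl⟩
  let t : R ⧸ S → R := fun q => (e q).1.out * ((e q).2.out : R)
  have ht : ∀ q, (t q : R ⧸ S) = q := by
    intro q
    show (((e q).1.out * ((e q).2.out : R) : R) : R ⧸ S) = q
    rw [← he, QuotientGroup.out_eq', Prod.mk.eta, Equiv.symm_apply_apply]
  rw [TransferOrbit.transfer_eq_prod_section ψ t ht,
    TransferOrbit.transfer_eq_prod_section _ Quotient.out QuotientGroup.out_eq', ← e.symm.prod_comp,
    Fintype.prod_prod_type]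
  refine Finset.prod_congr rfl fun a _ => ?_
  rw [TransferOrbit.transfer_eq_prod_section _ Quotient.out QuotientGroup.out_eq']
  refine Finset.prod_congr rfl fun b _ => ?_
  set m : M := ⟨(x • a).out⁻¹ * (x * a.out), TransferOrbit.section_mem _ QuotientGroup.out_eq' x a⟩
    with hm
  have hsmul : x • e.symm (a, b) = e.symm (x • a, m • b) := by
    conv_lhs => rw [← QuotientGroup.out_eq' b, he]
    conv_rhs => rw [← QuotientGroup.out_eq' b, MulAction.Quotient.smul_coe, he]
    rw [MulAction.Quotient.smul_coe, smul_eq_mul, smul_eq_mul, Subgroup.coe_mul, hm]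
    congr 1
    group
  have hte : ∀ z, t (e.symm z) = z.1.out * (z.2.out : R) := fun z => by
    show (e (e.symm z)).1.out * ((e (e.symm z)).2.out : R) = _
    rw [Equiv.apply_symm_apply]
  rw [MonoidHom.comp_apply]
  refine congrArg ψ (Subtype.ext ?_)
  show (t (x • e.symm (a, b)))⁻¹ * (x * t (e.symm (a, b))) = _
  rw [hsmul, hte, hte]
  show _ = ((m • b).out : R)⁻¹ * ((m : R) * (b.out : R))
  rw [hm]
  group

theorem choose_prime_sub_one_cast {k : ℕ} (hk : k ≤ p - 1) :
    (((p - 1).choose k : ℕ) : ZMod p) = (-1) ^ k := by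
  induction k with
  | zero => simp
  | succ k ih =>
    have h0 : ((p.choose (k + 1) : ℕ) : ZMod p) = 0 := by
      rw [ZMod.natCast_eq_zero_iff]; exact hp.out.dvd_choose_self k.succ_ne_zero (by omega)
    have h1 : p.choose (k + 1) = (p - 1).choose k + (p - 1).choose (k + 1) := by
      conv_lhs => rw [show p = p - 1 + 1 from (Nat.succ_pred_eq_of_pos hp.out.pos).symm]
      exact Nat.choose_succ_succ _ _
    rw [h1, Nat.cast_add, ih (by omega)] at h0
    rw [pow_succ, mul_neg_one]
    exact eq_neg_of_add_eq_zero_right h0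

/-- An iterated commutator with `p - 1` entries `z` gives the sum over the conjugates. -/
theorem sum_range_eq_zero {B : Type*} [AddCommGroup B] (hB : ∀ b : B, p • b = 0) (g : ℕ → B)
    (h : (fwdDiff 1)^[p - 1] g 0 = 0) : ∑ k ∈ Finset.range p, g k = 0 := by
  rw [fwdDiff_iter_eq_sum_shift, Nat.sub_add_cancel hp.out.one_le] at h
  rw [← h]
  refine Finset.sum_congr rfl fun k hk => ?_
  rw [Finset.mem_range] at hk
  have hc : (((-1 : ℤ) ^ (p - 1 - k) * ((p - 1).choose k : ℤ) : ℤ) : ZMod p) = ((1 : ℤ) : ZMod p) := by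
    push_cast
    rw [choose_prime_sub_one_cast (by omega), ← pow_add, Nat.sub_add_cancel (by omega)]
    rcases hp.out.eq_two_or_odd' with rfl | hodd
    · rw [ZMod.neg_eq_self_mod_two, one_pow]
    · exact Even.neg_one_pow (Nat.Odd.sub_odd hodd odd_one)
  obtain ⟨c, hc'⟩ := (ZMod.intCast_eq_intCast_iff_dvd_sub _ _ p).mp hc.symm
  rw [show (-1 : ℤ) ^ (p - 1 - k) * ((p - 1).choose k : ℤ) = 1 + c * p by rw [mul_comm c]; linarith,
    add_zsmul, one_zsmul, mul_zsmul, natCast_zsmul, hB, zsmul_zero, add_zero]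
  simp

/-- Transfer to a proper subgroup of a `p`-group generated by `Q` and `y` kills `y`, when the
iterated commutators with entries in `Q` vanish and the `p`-th powers of `y` are killed. -/
theorem transfer_eq_one (hR : IsPGroup p R) (hA : ∀ a : A, a ^ p = 1) {S : Subgroup R} (hS : S ≠ ⊤)
    (ψ : S →* A) (y : R)
    (hkill : ∀ (t : R) (m : ℕ) (h : t⁻¹ * y ^ (p * m) * t ∈ S), ψ ⟨_, h⟩ = 1) (Q : Subgroup R)
    (hgen : Q ⊔ zpowers y = ⊤)
    (hc : ∀ u : R, ∀ z ∈ Q, (fun v : R => v⁻¹ * z⁻¹ * v * z)^[p - 1] u = 1) :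
    MonoidHom.transfer ψ y = 1 := by
  classical
  obtain ⟨M, hM, hSM⟩ := (eq_top_or_exists_le_coatom S).resolve_left hS
  obtain ⟨hMn, hMi⟩ := Nilp.index_coatom_of_isPGroup hR hM
  haveI := hMn
  haveI : Fintype (Quotient (orbitRel (zpowers y) (R ⧸ S))) := Fintype.ofFinite _
  by_cases hy : y ∈ M
  · -- `y` in the maximal subgroup
    obtain ⟨z, hzQ, hzM⟩ : ∃ z ∈ Q, z ∉ M := by
      by_contra hcon
      push Not at hcon
      exact hM.1 (top_le_iff.mp (hgen ▸ sup_le hcon (zpowers_le.mpr hy)))
    rw [transfer_trans hSM]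
    set χ : M →* A := MonoidHom.transfer (ψ.comp (subgroupOfEquivOfLe hSM).toMonoidHom) with hχ
    have hord : orderOf (z : R ⧸ M) = p := by
      refine orderOf_eq_prime ?_ (fun h => hzM ((QuotientGroup.eq_one_iff z).mp h))
      conv_lhs => rw [← hMi, Subgroup.index_eq_card]
      exact pow_card_eq_one'
    haveI := Fintype.ofFinite (R ⧸ M)
    have hbij : Function.Bijective (fun j : Fin p => ((z ^ (j : ℕ) : R) : R ⧸ M)) := by
      rw [Fintype.bijective_iff_injective_and_card]
      refine ⟨fun i j hij => Fin.ext (pow_injOn_Iio_orderOf (x := (z : R ⧸ M)) ?_ ?_ hij), ?_⟩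
      · rw [Set.mem_Iio, hord]; exact i.2
      · rw [Set.mem_Iio, hord]; exact j.2
      · rw [Fintype.card_fin, ← Nat.card_eq_fintype_card, ← Subgroup.index_eq_card, hMi]
    let e := Equiv.ofBijective _ hbij
    have hfix : ∀ q : R ⧸ M, y • q = q := by
      intro q
      obtain ⟨r, rfl⟩ := QuotientGroup.mk_surjective q
      rw [MulAction.Quotient.smul_coe, smul_eq_mul, QuotientGroup.eq]
      simpa [mul_assoc] using hMn.conj_mem' _ (inv_mem hy) r
    let ch : R → ℕ → M := fun u j => if hu : u ∈ M then ⟨(z ^ j)⁻¹ * u * z ^ j, hMn.conj_mem' u hu _⟩ else 1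
    have hprod : MonoidHom.transfer χ y = ∏ j : Fin p, χ (ch y (j : ℕ)) := by
      rw [TransferOrbit.transfer_eq_prod_section χ (fun q => z ^ ((e.symm q : Fin p) : ℕ))
        (fun q => e.apply_symm_apply q), ← e.prod_comp]
      refine Finset.prod_congr rfl fun j _ => congrArg χ (Subtype.ext ?_)
      simp only [hfix, Equiv.symm_apply_apply, ch, dif_pos hy, mul_assoc]
    set c : R → R := fun v => v⁻¹ * z⁻¹ * v * z with hcdef
    have hcM : ∀ n, c^[n] y ∈ M := by
      intro n
      induction n with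
      | zero => exact hy
      | succ n ih =>
        rw [Function.iterate_succ_apply']
        show (c^[n] y)⁻¹ * z⁻¹ * c^[n] y * z ∈ M
        rw [mul_assoc, mul_assoc, ← mul_assoc z⁻¹]
        exact mul_mem (inv_mem ih) (hMn.conj_mem' _ ih z)
    let g : ℕ → Additive A := fun j => Additive.ofMul (χ (ch y j))
    have hiter : ∀ n j, (fwdDiff 1)^[n] g j = Additive.ofMul (χ (ch (c^[n] y) j)) := by
      intro n
      induction n with
      | zero => exact fun j => rfl
      | succ n ih =>
        intro j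
        rw [Function.iterate_succ_apply', fwdDiff, ih, ih, Function.iterate_succ_apply', ← ofMul_div,
          div_eq_inv_mul, ← map_inv, ← map_mul]
        refine congrArg (fun w => Additive.ofMul (χ w)) (Subtype.ext ?_)
        have h1 := hcM n
        have h2 : c (c^[n] y) ∈ M := by
          have := hcM (n + 1)
          rwa [Function.iterate_succ_apply'] at this
        simp only [ch, dif_pos h1, dif_pos h2, Subgroup.coe_mul, Subgroup.coe_inv]
        simp only [hcdef, pow_succ]
        group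
    rw [hprod, Fin.prod_univ_eq_prod_range (fun j => χ (ch y j)) p]
    have hsum := sum_range_eq_zero (p := p) (fun b : Additive A => hA (Additive.toMul b)) g (by
      rw [hiter, hc y z hzQ]
      have : ch (1 : R) 0 = 1 := by
        simp only [ch, dif_pos (one_mem M)]
        exact Subtype.ext (by simp)
      rw [this, map_one]; rfl)
    exact hsum
  · -- `y` outside the maximal subgroup
    rw [MonoidHom.transfer_eq_prod_quotient_orbitRel_zpowers_quot]
    refine Fintype.prod_eq_one _ fun q => ?_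
    set r := Function.minimalPeriod (y • ·) q.out
    have hmem : q.out.out⁻¹ * y ^ r * q.out.out ∈ S := QuotientGroup.out_conj_pow_minimalPeriod_mem S y q.out
    have hrM : y ^ r ∈ M := by
      have := hMn.conj_mem _ (hSM hmem) q.out.out
      simpa [mul_assoc] using this
    have hord : orderOf (y : R ⧸ M) = p := by
      refine orderOf_eq_prime ?_ (fun h => hy ((QuotientGroup.eq_one_iff y).mp h))
      conv_lhs => rw [← hMi, Subgroup.index_eq_card]
      exact pow_card_eq_one'
    obtain ⟨m, hm⟩ : p ∣ r := by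
      rw [← hord]
      refine orderOf_dvd_of_pow_eq_one ?_
      rw [← QuotientGroup.mk_pow]
      exact (QuotientGroup.eq_one_iff _).mpr hrM
    have key := hkill q.out.out m (by rw [← hm]; exact hmem)
    convert key using 3
    rw [← hm]

variable {G : Type*} [Group G] [Finite G]

theorem sylow_le_normalizer (P : Sylow p G) {Q : Subgroup G} (hQ : Cfsg.IsWeaklyClosed Q P) :
    Subgroup.normalizer ((P : Subgroup G) : Set G) ≤ Subgroup.normalizer (Q : Set G) := by
  intro g hg
  refine Transfer.map_conj_eq_iff.mp (hQ.2 g ?_)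
  calc Q.map (MulAut.conj g).toMonoidHom ≤ (P : Subgroup G).map (MulAut.conj g).toMonoidHom := map_mono hQ.1
    _ = P := Transfer.map_conj_eq_iff.mpr hg

/-- An element which moves `Q` into `N(Q)` lies in `N(Q)`. -/
theorem mem_normalizer_of_conj_le (P : Sylow p G) {Q : Subgroup G} (hQ : Cfsg.IsWeaklyClosed Q P) (a : G)
    (ha : ∀ z ∈ Q, a⁻¹ * z * a ∈ Subgroup.normalizer (Q : Set G)) :
    a ∈ Subgroup.normalizer (Q : Set G) := by
  set H := Subgroup.normalizer (Q : Set G) with hH
  have hPH : (P : Subgroup G) ≤ H := le_normalizer.trans (sylow_le_normalizer P hQ)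
  have hle : Q.map (MulAut.conj a⁻¹).toMonoidHom ≤ H := by
    rintro _ ⟨z, hz, rfl⟩
    simpa using ha z hz
  obtain ⟨T, hT⟩ := (((P.2.to_le hQ.1).map (MulAut.conj a⁻¹).toMonoidHom).comap_subtype (K := H)).exists_le_sylow
  obtain ⟨h, hh⟩ := Transfer.exists_sylow_map_conj_eq (P.subtype hPH) T
  have e : Q.map (MulAut.conj ((h : G) * a⁻¹)).toMonoidHom ≤ P := by
    rw [← Transfer.map_conj_map_conj]
    rintro _ ⟨w, hw, rfl⟩
    have h1 : MulAut.conj h ⟨w, hle hw⟩ ∈ ((P.subtype hPH : Sylow p H) : Subgroup H) :=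
      hh ▸ mem_map_of_mem _ (hT (show (⟨w, hle hw⟩ : H) ∈ _ from hw))
    exact h1
  have h2 : (h : G) * a⁻¹ ∈ H := Transfer.map_conj_eq_iff.mp (hQ.2 _ e)
  have h3 := (mul_mem_cancel_left h.2).mp h2
  exact inv_mem_iff.mp h3

open scoped commutatorElement in
/-- **Hall–Wielandt**: if `Q` is weakly closed in the Sylow subgroup `P` and `[u, z, …, z] = 1`
(`p - 1` entries) for `u ∈ P`, `z ∈ Q`, then the largest `p`-quotients of `G` and of `N(Q)` agree. -/
theorem pResidualOf_normalizer_eq (P : Sylow p G) {Q : Subgroup G} (hQ : Cfsg.IsWeaklyClosed Q P)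
    (hc : ∀ u ∈ (P : Subgroup G), ∀ z ∈ Q, (fun y : G => y⁻¹ * z⁻¹ * y * z)^[p - 1] u = 1) :
    Cfsg.pResidualOf p (Subgroup.normalizer (Q : Set G)) =
      Cfsg.pResidual p G ⊓ Subgroup.normalizer (Q : Set G) := by
  classical
  set H := Subgroup.normalizer (Q : Set G) with hH
  have hPH : (P : Subgroup G) ≤ H := le_normalizer.trans (sylow_le_normalizer P hQ)
  suffices hmain : (Cfsg.pResidual p G).subgroupOf H = Cfsg.pResidual p H by
    rw [Cfsg.pResidualOf, ← hmain, subgroupOf_map_subtype]
  refine Transfer.tate H (Transfer.not_dvd_index_of_sylow_le P hPH) ?_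
  set L := Cfsg.pResidual p H with hL
  have hX : IsPGroup p (H ⧸ L) := Transfer.isPGroup_quotient_pResidual
  let _ : CommGroup ((H ⧸ L) ⧸ frattini (H ⧸ L)) :=
    { (inferInstance : Group ((H ⧸ L) ⧸ frattini (H ⧸ L))) with
      mul_comm := fun a b => by
        induction a using QuotientGroup.induction_on with | _ a =>
        induction b using QuotientGroup.induction_on with | _ b =>
        rw [← QuotientGroup.mk_mul, ← QuotientGroup.mk_mul, QuotientGroup.eq]
        apply Transfer.commutator_le_frattini_of_isPGroup hX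
        have : (a * b)⁻¹ * (b * a) = ⁅b⁻¹, a⁻¹⁆ := by rw [commutatorElement_def]; group
        rw [this]
        exact commutator_mem_commutator (mem_top _) (mem_top _) }
  set φ : H →* (H ⧸ L) ⧸ frattini (H ⧸ L) := (QuotientGroup.mk' _).comp (QuotientGroup.mk' L) with hφ
  have hexp : ∀ a : (H ⧸ L) ⧸ frattini (H ⧸ L), a ^ p = 1 := by
    intro a
    induction a using QuotientGroup.induction_on with | _ a =>
    rw [← QuotientGroup.mk_pow, QuotientGroup.eq_one_iff]
    exact (Nilp.commutator_le_and_pow_mem_frattini hX).2 a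
  set V : G →* (H ⧸ L) ⧸ frattini (H ⧸ L) := MonoidHom.transfer φ with hV
  have main : ∀ (n : ℕ) (y : G), orderOf y = n → ∀ hy : y ∈ (P : Subgroup G), V y = φ ⟨y, hPH hy⟩ := by
    intro n
    induction n using Nat.strong_induction_on with
    | _ n ih =>
    intro y hn hy
    have kill : ∀ (g : G) (m : ℕ) (hg : g⁻¹ * y ^ (p * m) * g ∈ H), φ ⟨_, hg⟩ = 1 := by
      intro g m hg
      by_cases hy1 : y = 1
      · convert map_one φ
        subst hy1; simp
      have hpgrp : IsPGroup p (zpowers (g⁻¹ * y ^ (p * m) * g)) :=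
        (P.2.to_le (zpowers_le.mpr (pow_mem hy (p * m)))).map (MulAut.conj g⁻¹).toMonoidHom
          |>.to_le (zpowers_le.mpr ⟨y ^ (p * m), mem_zpowers _, by simp⟩)
      obtain ⟨T, hT⟩ := (hpgrp.comap_subtype (K := H)).exists_le_sylow
      obtain ⟨h, hh⟩ := Transfer.exists_sylow_map_conj_eq (P.subtype hPH) T
      set c : H := MulAut.conj h ⟨_, hg⟩ with hcdef
      have hcP : (c : G) ∈ (P : Subgroup G) := by
        have h1 : c ∈ ((P.subtype hPH : Sylow p H) : Subgroup H) :=
          hh ▸ mem_map_of_mem _ (hT (show (⟨_, hg⟩ : H) ∈ _ from mem_zpowers _))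
        exact h1
      have hce : (c : G) = ((h : G) * g⁻¹) * y ^ (p * m) * ((h : G) * g⁻¹)⁻¹ := by
        rw [hcdef, MulAut.conj_apply]
        simp [mul_assoc]
      have hlt : orderOf (c : G) < n := by
        have e1 : orderOf (c : G) = orderOf (y ^ (p * m)) := by
          rw [hce, ← MulAut.conj_apply]
          exact orderOf_injective (MulAut.conj ((h : G) * g⁻¹)).toMonoidHom (MulEquiv.injective _) _
        have e2 : orderOf (y ^ (p * m)) ∣ orderOf (y ^ p) := by rw [pow_mul]; exact orderOf_pow_dvd _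
        obtain ⟨k, hk⟩ := (IsPGroup.iff_orderOf.mp P.2) ⟨y, hy⟩
        rw [← Subgroup.orderOf_coe] at hk
        have hk0 : k ≠ 0 := fun h0 => hy1 (orderOf_eq_one_iff.mp (by rw [hk, h0, pow_zero]))
        have hpd : p ∣ orderOf y := hk ▸ dvd_pow_self p hk0
        have e3 : orderOf (y ^ p) = orderOf y / p := orderOf_pow_of_dvd hp.out.ne_zero hpd
        rw [e1, ← hn]
        exact lt_of_le_of_lt (Nat.le_of_dvd (orderOf_pos _) e2)
          (e3 ▸ Nat.div_lt_self (orderOf_pos y) hp.out.one_lt)
      have h1 : V (c : G) = φ c := ih _ hlt (c : G) rfl hcP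
      rw [hce, map_mul, map_mul, map_inv, mul_comm (V ((h : G) * g⁻¹)), mul_inv_cancel_right, pow_mul, map_pow,
        map_pow, hexp, one_pow] at h1
      have h2 : φ c = φ ⟨_, hg⟩ := by
        rw [hcdef, MulAut.conj_apply, map_mul, map_mul, map_inv, mul_comm (φ h), mul_inv_cancel_right]
      rw [← h2]
      exact h1.symm
    set Rr : Subgroup G := Q ⊔ zpowers y with hR
    have hRP : Rr ≤ (P : Subgroup G) := sup_le hQ.1 (zpowers_le.mpr hy)
    have hyR : y ∈ Rr := le_sup_right (a := Q) (mem_zpowers y)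
    haveI : Fintype (orbitRel.Quotient Rr (G ⧸ H)) := Fintype.ofFinite _
    rw [hV, TransferOrbit.transfer_eq_prod_orbits φ Rr ⟨y, hyR⟩]
    have hfix1 : ∀ s : Rr, s • ((1 : G) : G ⧸ H) = ((1 : G) : G ⧸ H) := by
      intro s
      show (s : G) • ((1 : G) : G ⧸ H) = _
      rw [MulAction.Quotient.smul_coe, smul_eq_mul, QuotientGroup.eq, mul_one, mul_one]
      exact inv_mem (hPH (hRP s.2))
    set ω₀ : orbitRel.Quotient Rr (G ⧸ H) := Quotient.mk'' ((1 : G) : G ⧸ H) with hω₀
    have hout : ω₀.out = ((1 : G) : G ⧸ H) := by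
      obtain ⟨s, hs⟩ := orbitRel_apply.1 (Quotient.mk_out (s := orbitRel Rr (G ⧸ H)) ((1 : G) : G ⧸ H))
      exact hs.symm.trans (hfix1 s)
    rw [Fintype.prod_eq_single ω₀]
    · have htop : stabilizer Rr ω₀.out = ⊤ := eq_top_iff.mpr fun s _ => by
        rw [mem_stabilizer_iff, hout]; exact hfix1 s
      rw [TransferOrbit.transfer_of_eq_top _ htop]
      have ha : ω₀.out.out ∈ H := by
        rw [← inv_mem_iff]
        have h1 : ((ω₀.out.out : G) : G ⧸ H) = ((1 : G) : G ⧸ H) := by rw [QuotientGroup.out_eq', hout]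
        simpa using QuotientGroup.eq.1 h1
      rw [TransferOrbit.orbitHom_apply φ Rr ω₀.out _ (mul_mem (mul_mem (inv_mem ha) (hPH hy)) ha)]
      calc _ = φ ((⟨_, ha⟩ : H)⁻¹ * ⟨y, hPH hy⟩ * ⟨_, ha⟩) := congrArg φ (Subtype.ext rfl)
        _ = φ ⟨y, hPH hy⟩ := by rw [map_mul, map_mul, map_inv, mul_comm (φ ⟨_, ha⟩)⁻¹, inv_mul_cancel_right]
    · intro ω hω
      have hS : stabilizer Rr ω.out ≠ ⊤ := by
        intro ht
        apply hω
        have hmem : ω.out.out ∈ H := by
          refine mem_normalizer_of_conj_le P hQ _ fun z hz => ?_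
          have h1 : (⟨z, le_sup_left (b := zpowers y) hz⟩ : Rr) • ω.out = ω.out :=
            mem_stabilizer_iff.mp (ht ▸ mem_top _)
          change (z : G) • ω.out = ω.out at h1
          conv_lhs at h1 => rw [← QuotientGroup.out_eq' ω.out]
          conv_rhs at h1 => rw [← QuotientGroup.out_eq' ω.out]
          rw [MulAction.Quotient.smul_coe, smul_eq_mul, QuotientGroup.eq, mul_inv_rev] at h1
          have h2 := inv_mem h1
          simpa [mul_assoc] using h2
        have h2 : ω.out = ((1 : G) : G ⧸ H) := by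
          rw [← QuotientGroup.out_eq' ω.out, QuotientGroup.eq, mul_one]
          exact inv_mem hmem
        rw [hω₀, ← h2]
        exact (Quotient.out_eq' ω).symm
      refine transfer_eq_one (P.2.to_le hRP) hexp hS _ ⟨y, hyR⟩ ?_ (Q.subgroupOf Rr) ?_ ?_
      · intro t m ht
        have hg : ((t : G) * ω.out.out)⁻¹ * y ^ (p * m) * ((t : G) * ω.out.out) ∈ H := by
          have h := ((⟨_, ht⟩ : stabilizer Rr ω.out)).2
          rw [mem_stabilizer_iff] at h
          change (((t⁻¹ * ⟨y, hyR⟩ ^ (p * m) * t : Rr) : G)) • ω.out = ω.out at h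
          conv_lhs at h => rw [← QuotientGroup.out_eq' ω.out]
          conv_rhs at h => rw [← QuotientGroup.out_eq' ω.out]
          rw [MulAction.Quotient.smul_coe, smul_eq_mul, QuotientGroup.eq] at h
          have h2 := inv_mem h
          simpa [mul_assoc] using h2
        refine Eq.trans ?_ (kill _ m hg)
        show φ _ = φ _
        refine congrArg φ (Subtype.ext ?_)
        simp [mul_assoc]
      · apply map_injective Rr.subtype_injective
        rw [Subgroup.map_sup, map_subgroupOf_eq_of_le le_sup_left, MonoidHom.map_zpowers, ← MonoidHom.range_eq_map,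
          range_subtype]
        rfl
      · intro u z hz
        have key : ∀ k, (((fun v : Rr => v⁻¹ * z⁻¹ * v * z)^[k] u : Rr) : G) =
            (fun v : G => v⁻¹ * (z : G)⁻¹ * v * (z : G))^[k] (u : G) := by
          intro k
          induction k with
          | zero => rfl
          | succ k ih =>
            rw [Function.iterate_succ_apply', Function.iterate_succ_apply', ← ih]
            rfl
        exact Subtype.ext ((key _).trans (hc _ (hRP u.2) _ hz))
  intro x hx
  rw [mem_comap]
  have htop := Transfer.pResidual_sup_sylow (P.subtype hPH)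
  obtain ⟨l, hl, y, hy, rfl⟩ :
      x ∈ ((L : Set H) * ((P.subtype hPH : Subgroup H) : Set H)) := by
    rw [← normal_mul, htop]; trivial
  have hl' : (l : G) ∈ Cfsg.pResidual p G := Transfer.pResidual_le_subgroupOf H hl
  have hy' : (y : G) ∈ Cfsg.pResidual p G :=
    (mul_mem_cancel_left hl').mp (by simpa using mem_subgroupOf.mp hx)
  have hyP : (y : G) ∈ (P : Subgroup G) := hy
  have h1 : V (y : G) = 1 := Transfer.pResidual_le_ker (hX.to_quotient _) V hy'
  rw [main _ _ rfl hyP] at h1
  rw [map_mul, show QuotientGroup.mk' L l = 1 from (QuotientGroup.eq_one_iff l).mpr hl, one_mul]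
  exact (QuotientGroup.eq_one_iff _).mp h1

end Cfsg.Agent.Lib.HallWielandt
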